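import Cfsg.Agent.ThreeTransSplit52.Step

/-!
Induction: a member of a class of involutions with products of order at most `3` normalises a
`3`-subgroup covering the `3`-part, over a normal `2`-subgroup.
-/

set_option autoImplicit false

namespace Cfsg.Agent.ThreeTransSplit52

universe v

theorem exists_minimal_normal {G : Type v} [Group G] [Finite G] {V : Subgroup G} [hVn : V.Normal]
    (hV : IsPGroup 2 V) (hV1 : V ≠ ⊥) : ∃ W : Subgroup G, W.Normal ∧ W ≠ ⊥ ∧ W ≤ V ∧
      (∀ v ∈ V, ∀ u ∈ W, v * u = u * v) ∧ (∀ u ∈ W, u * u = 1) ∧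
      ∀ N : Subgroup G, N.Normal → N ≤ W → N = ⊥ ∨ N = W := by
  classical
  haveI := Fact.mk Nat.prime_two
  obtain ⟨W, ⟨hWn, hW1, hWV⟩, hmin⟩ := (wellFounded_lt (α := Subgroup G)).has_min
    {N : Subgroup G | N.Normal ∧ N ≠ ⊥ ∧ N ≤ V} ⟨V, hVn, hV1, le_rfl⟩
  have hmin' : ∀ N : Subgroup G, N.Normal → N ≤ W → N = ⊥ ∨ N = W := fun N hN hle => by
    by_contra h
    push Not at h
    exact hmin N ⟨hN, h.1, hle.trans hWV⟩ (lt_of_le_of_ne hle h.2)
  haveI := hWn
  haveI : (W.subgroupOf V).Normal := inferInstance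
  haveI : Nontrivial V := (Subgroup.nontrivial_iff_ne_bot _).2 hV1
  -- a non-trivial normal subgroup of a `2`-group meets the centre
  have hZ : (Subgroup.center V).map V.subtype ⊓ W ≠ ⊥ := by
    intro h
    letI : MulAction V W := MulAction.compHom W ((MulAut.conjNormal (H := W)).comp V.subtype)
    haveI : Nontrivial W := (Subgroup.nontrivial_iff_ne_bot _).2 hW1
    obtain ⟨k, hk, hk'⟩ := (hV.to_le hWV).nontrivial_iff_card.1 inferInstance
    have hsmul : ∀ (v : V) (u : W), ((v • u : W) : G) = v * u * (v : G)⁻¹ := fun v u =>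
      MulAut.conjNormal_apply (v : G) u
    obtain ⟨u, hu, hu1⟩ := hV.exists_fixed_point_of_prime_dvd_card_of_fixed_point W
      (hk' ▸ dvd_pow_self 2 hk.ne') (a := 1) (fun v => Subtype.ext (by rw [hsmul]; simp))
    refine hu1 (Subtype.ext ?_)
    have hm : (u : G) ∈ (Subgroup.center V).map V.subtype ⊓ W :=
      ⟨⟨⟨u, hWV u.2⟩, Subgroup.mem_center_iff.2 fun v => Subtype.ext (by
        have h1 := congrArg Subtype.val (hu v)
        rw [hsmul] at h1
        exact mul_inv_eq_iff_eq_mul.1 h1), rfl⟩, u.2⟩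
    rw [h, Subgroup.mem_bot] at hm
    exact hm.symm
  haveI : ((Subgroup.center V).map V.subtype).Normal := by
    haveI : (Subgroup.center V).Characteristic := inferInstance
    exact ConjAct.normal_of_characteristic_of_normal
  have hWZ : W ≤ (Subgroup.center V).map V.subtype := by
    rcases hmin' _ inferInstance (inf_le_right (a := (Subgroup.center V).map V.subtype)) with h | h
    · exact absurd h hZ
    · exact inf_eq_right.1 h
  have hc : ∀ v ∈ V, ∀ u ∈ W, v * u = u * v := fun v hv u hu => by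
    obtain ⟨z, hz, rfl⟩ := hWZ hu
    exact congrArg Subtype.val (Subgroup.mem_center_iff.1 hz ⟨v, hv⟩)
  refine ⟨W, hWn, hW1, hWV, hc, ?_, hmin'⟩
  let T : Subgroup G :=
    { carrier := {u | u ∈ W ∧ u * u = 1}
      one_mem' := ⟨one_mem _, one_mul 1⟩
      mul_mem' := fun {a b} ha hb => ⟨mul_mem ha.1 hb.1, by
        have h := hc a (hWV ha.1) b hb.1
        calc a * b * (a * b) = a * (b * a) * b := by group
          _ = a * (a * b) * b := by rw [h]
          _ = (a * a) * (b * b) := by group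
          _ = 1 := by rw [ha.2, hb.2, one_mul]⟩
      inv_mem' := fun {a} ha => ⟨inv_mem ha.1, by rw [← mul_inv_rev, ha.2, inv_one]⟩ }
  have hT : T.Normal := ⟨fun u hu g => ⟨hWn.conj_mem u hu.1 g, by
    rw [show g * u * g⁻¹ * (g * u * g⁻¹) = g * (u * u) * g⁻¹ by group, hu.2, mul_one,
      mul_inv_cancel]⟩⟩
  rcases hmin' T hT (fun u hu => hu.1) with h | h
  · exfalso
    haveI : Nontrivial W := (Subgroup.nontrivial_iff_ne_bot _).2 hW1
    have hWp : IsPGroup 2 W := hV.to_le hWV
    obtain ⟨k, hk, hk'⟩ := hWp.nontrivial_iff_card.1 inferInstance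
    obtain ⟨z, hz⟩ := exists_prime_orderOf_dvd_card' (G := W) 2 (hk' ▸ dvd_pow_self 2 hk.ne')
    have h2 : (z : G) ∈ T := ⟨z.2, by
      have := congrArg Subtype.val (pow_orderOf_eq_one z)
      rwa [hz, pow_two] at this⟩
    rw [h, Subgroup.mem_bot] at h2
    rw [show z = 1 from Subtype.ext h2, orderOf_one] at hz
    omega
  · exact fun u hu => (h.ge hu).2

theorem exists_normalized (n : ℕ) : ∀ (G : Type v) [Group G] [Finite G], Nat.card G ≤ n →
    ∀ (V M P : Subgroup G) [V.Normal] [M.Normal], IsPGroup 2 V → IsPGroup 3 P → V ⊔ P = M →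
    ∀ d : G, d * d = 1 → d ∉ M → M ⊔ Subgroup.zpowers d = ⊤ →
    (∀ g : G, (d * (g * d * g⁻¹)) ^ 2 = 1 ∨ (d * (g * d * g⁻¹)) ^ 3 = 1) →
    (∃ x ∈ M, x ∉ V ∧ d * x * d * x ∈ V) →
    ∃ Q : Subgroup G, IsPGroup 3 Q ∧ V ⊔ Q = M ∧ ∀ x ∈ Q, d * x * d⁻¹ ∈ Q := by
  induction n with
  | zero => exact fun G _ _ h => absurd h (not_le.2 Nat.card_pos)
  | succ n ih =>
    intro G _ _ hn V M P _ _ hV hP hVP d hd2 hdM hgen hord hx
    haveI := Fact.mk Nat.prime_two
    haveI := Fact.mk Nat.prime_three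
    rcases eq_or_ne V ⊥ with rfl | hV1
    · rw [bot_sup_eq] at hVP
      exact ⟨P, hP, by rw [bot_sup_eq, hVP], fun x hx => by
        rw [hVP] at hx ⊢
        exact Subgroup.Normal.conj_mem inferInstance x hx d⟩
    obtain ⟨W, hWn, hW1, hWV, hc, hW2, hmin⟩ := exists_minimal_normal hV hV1
    set π := QuotientGroup.mk' W with hπ
    have hWM : W ≤ M := hWV.trans (hVP ▸ le_sup_left)
    have hsurj : Function.Surjective π := QuotientGroup.mk'_surjective W
    have hcard : Nat.card (G ⧸ W) ≤ n := by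
      have h := W.card_eq_card_quotient_mul_card_subgroup
      have h2 : 1 < Nat.card W := (Subgroup.one_lt_card_iff_ne_bot W).2 hW1
      have h3 : 0 < Nat.card (G ⧸ W) := Nat.card_pos
      nlinarith
    haveI : (V.map π).Normal := Subgroup.Normal.map inferInstance π hsurj
    haveI : (M.map π).Normal := Subgroup.Normal.map inferInstance π hsurj
    have hcomap : ∀ K : Subgroup G, W ≤ K → (K.map π).comap π = K := fun K hK => by
      rw [hπ, Subgroup.comap_map_eq, QuotientGroup.ker_mk', sup_eq_left.2 hK]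
    obtain ⟨Q, hQp, hQM, hQd⟩ := ih (G ⧸ W) hcard (V.map π) (M.map π) (P.map π) (hV.map π) (hP.map π)
      (by rw [← Subgroup.map_sup, hVP]) (π d) (by rw [← map_mul, hd2, map_one])
      (fun h => hdM (hcomap M hWM ▸ (show d ∈ (M.map π).comap π from h)))
      (by rw [← MonoidHom.map_zpowers, ← Subgroup.map_sup, hgen, Subgroup.map_top_of_surjective π hsurj])
      (fun g => by
        obtain ⟨g, rfl⟩ := hsurj g
        rcases hord g with h | h
        · left; rw [← map_inv, ← map_mul, ← map_mul, ← map_mul, ← map_pow, h, map_one]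
        · right; rw [← map_inv, ← map_mul, ← map_mul, ← map_mul, ← map_pow, h, map_one])
      (by
        obtain ⟨x, hxM, hxV, hxd⟩ := hx
        refine ⟨π x, Subgroup.mem_map_of_mem π hxM, fun h => hxV ?_, ?_⟩
        · exact hcomap V hWV ▸ (show x ∈ (V.map π).comap π from h)
        · rw [← map_mul, ← map_mul, ← map_mul]; exact Subgroup.mem_map_of_mem π hxd)
    -- a `3`-subgroup covering `Q`, and the element of `W * d` normalising it
    set M₁ := Q.comap π with hM₁
    have hWM₁ : W ≤ M₁ := fun x hx => by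
      rw [hM₁, Subgroup.mem_comap, show π x = 1 from (QuotientGroup.eq_one_iff x).2 hx]
      exact one_mem _
    have hd₁ : ∀ x ∈ M₁, d * x * d⁻¹ ∈ M₁ := fun x hx => by
      rw [hM₁, Subgroup.mem_comap, map_mul, map_mul, map_inv]
      exact hQd _ hx
    obtain ⟨S⟩ : Nonempty (Sylow 3 M₁) := inferInstance
    set P₁ := (S : Subgroup M₁).map M₁.subtype with hP₁
    have hP₁p : IsPGroup 3 P₁ := S.2.map _
    have hP₁M : P₁ ≤ M₁ := Subgroup.map_subtype_le _
    have hdec : M₁ ≤ W ⊔ P₁ := by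
      set ρ := π.subgroupComap Q
      have hρ : Function.Surjective ρ := π.subgroupComap_surjective_of_surjective Q hsurj
      have htop : (S : Subgroup M₁).map ρ = ⊤ := ((S.mapSurjective hρ).3 (IsPGroup.of_equiv hQp Subgroup.topEquiv.symm) le_top).symm
      intro x hx
      have h : ρ ⟨x, hx⟩ ∈ (S : Subgroup M₁).map ρ := htop ▸ Subgroup.mem_top _
      obtain ⟨s, hs, hsx⟩ := h
      have h1 : π (s : G) = π x := congrArg Subtype.val hsx
      obtain ⟨u, hu, hux⟩ : ∃ u ∈ W, x = u * (s : G) := ⟨x * (s : G)⁻¹, by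
        rw [← QuotientGroup.eq_one_iff, ← QuotientGroup.mk'_apply, map_mul, map_inv, ← hπ, h1,
          mul_inv_cancel], by group⟩
      rw [hux]
      exact Subgroup.mul_mem_sup hu (Subgroup.mem_map_of_mem _ hs)
    have hVP₁ : V ⊔ P₁ = M := by
      refine le_antisymm (sup_le (hVP ▸ le_sup_left) fun x hx => ?_) fun x hx => ?_
      · rw [← hcomap M hWM, Subgroup.mem_comap, ← hQM]
        exact Subgroup.mem_sup_right (hP₁M hx)
      · have h : π x ∈ V.map π ⊔ Q := hQM.symm ▸ Subgroup.mem_map_of_mem π hx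
        obtain ⟨_, ⟨v, hv, rfl⟩, q, hq, e⟩ := Subgroup.mem_sup_of_normal_left.1 h
        have h2 : v⁻¹ * x ∈ M₁ := by
          rw [hM₁, Subgroup.mem_comap, map_mul, map_inv, ← e, inv_mul_cancel_left]
          exact hq
        have h3 := (sup_le_sup_right hWV P₁) (hdec h2)
        have h4 := mul_mem (Subgroup.mem_sup_left (T := P₁) hv) h3
        rwa [mul_inv_cancel_left] at h4
    obtain ⟨w, hwW, hw⟩ : ∃ w ∈ W, ∀ x ∈ P₁, (w * d) * x * (w * d)⁻¹ ∈ P₁ := by
      let θ : M₁ →* M₁ :=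
        { toFun := fun x => ⟨d * x * d⁻¹, hd₁ x x.2⟩
          map_one' := Subtype.ext (by simp)
          map_mul' := fun a b => Subtype.ext (show d * (a * b : G) * d⁻¹ = _ by simp [mul_assoc]) }
      have hθ : Function.Surjective θ := (Finite.injective_iff_surjective).1 fun a b h =>
        Subtype.ext (mul_left_cancel (mul_right_cancel (congrArg Subtype.val h)))
      obtain ⟨m, hm⟩ := MulAction.exists_smul_eq M₁ (S.mapSurjective hθ) S
      obtain ⟨u, hu, p, hp, hupm⟩ := Subgroup.mem_sup_of_normal_left.1 (hdec m.2)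
      -- `m = u * p = p * (p⁻¹ * u * p)`
      refine ⟨p⁻¹ * u * p, hWn.conj_mem' u hu p, fun x hx => ?_⟩
      obtain ⟨s, hs, rfl⟩ := hx
      have h1 : m * θ s * m⁻¹ ∈ (S : Subgroup M₁) := by
        conv => rw [← hm]
        rw [Sylow.coe_subgroup_smul]
        exact Subgroup.smul_mem_pointwise_smul _ _ _ (Subgroup.mem_map_of_mem θ hs)
      have h2 : (m : G) * (d * s * d⁻¹) * (m : G)⁻¹ ∈ P₁ := Subgroup.mem_map_of_mem M₁.subtype h1
      rw [← hupm] at h2
      have h3 := mul_mem (mul_mem (inv_mem hp) h2) hp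
      simpa [mul_assoc] using h3
    obtain ⟨x₀, hx₀M, hx₀V, hx₀d⟩ := hx
    have hxP : ∃ x ∈ P₁, x ≠ 1 ∧ d * x * d * x ∈ V := by
      rw [← hVP₁] at hx₀M
      obtain ⟨v, hv, x, hx, rfl⟩ := Subgroup.mem_sup_of_normal_left.1 hx₀M
      refine ⟨x, hx, fun e => hx₀V (by rw [e, mul_one]; exact hv), ?_⟩
      have h := (inferInstance : V.Normal)
      rw [← QuotientGroup.eq_one_iff] at hx₀d ⊢ hv
      simp only [QuotientGroup.mk_mul] at hx₀d ⊢
      simpa [hv] using hx₀d
    obtain ⟨a, ha, hy⟩ := step (d := d) (n := w * d) (w := w) hWV hV hP₁p hc hW2 hmin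
      (by rw [hVP₁, hgen]) hd2 hwW rfl hw hord hxP
    refine ⟨P₁.map (MulAut.conj a).toMonoidHom, hP₁p.map _, ?_, ?_⟩
    · have haV : a ∈ V := hWV ha
      rw [← hVP₁]
      refine le_antisymm (sup_le le_sup_left ?_) (sup_le le_sup_left fun x hx => ?_)
      · rintro _ ⟨x, hx, rfl⟩
        exact mul_mem (mul_mem (Subgroup.mem_sup_left haV) (Subgroup.mem_sup_right hx))
          (inv_mem (Subgroup.mem_sup_left haV))
      · have h1 : a * x * a⁻¹ ∈ P₁.map (MulAut.conj a).toMonoidHom := Subgroup.mem_map_of_mem _ hx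
        have h2 := mul_mem (mul_mem (inv_mem (Subgroup.mem_sup_left (T := P₁.map (MulAut.conj a).toMonoidHom) haV))
          (Subgroup.mem_sup_right (S := V) h1)) (Subgroup.mem_sup_left haV)
        simpa [mul_assoc] using h2
    · rintro _ ⟨x, hx, rfl⟩
      obtain ⟨y, hy', e⟩ := hy x hx
      exact ⟨y, hy', e.symm⟩

end Cfsg.Agent.ThreeTransSplit52
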