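import Mathlib.GroupTheory.Sylow
import Mathlib.GroupTheory.SchurZassenhaus
import Mathlib.GroupTheory.QuotientGroup.Basic

/-!
A class of involutions with products of order at most `3` over a normal `2`-subgroup: one of its
members normalises a `3`-subgroup covering the `3`-part, so the extension splits.
-/

set_option autoImplicit false

namespace Cfsg.Agent.ThreeTransSplit52

universe v

variable {G : Type v} [Group G]

theorem eq_one_of_two_three {Q : Subgroup G} {R : Subgroup G} (hQ : IsPGroup 2 Q)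
    (hR : IsPGroup 3 R) {x : G} (h1 : x ∈ Q) (h2 : x ∈ R) : x = 1 := by
  haveI := Fact.mk Nat.prime_two
  haveI := Fact.mk Nat.prime_three
  exact Subgroup.disjoint_def.1 (IsPGroup.disjoint_of_ne 2 3 (by norm_num) Q R hQ hR) h1 h2

theorem eq_one_of_sq {R : Subgroup G} (hR : IsPGroup 3 R) {x : G} (h2 : x ∈ R)
    (h : x ^ 2 = 1) : x = 1 := by
  have hp : IsPGroup 2 (Subgroup.zpowers x) := by
    rintro ⟨y, k, rfl⟩
    refine ⟨1, Subtype.ext ?_⟩
    show (x ^ k) ^ (2 ^ 1) = (1 : G)
    rw [pow_one, ← zpow_natCast, ← zpow_mul, mul_comm, zpow_mul]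
    show (x ^ ((2 : ℕ) : ℤ)) ^ k = 1
    rw [zpow_natCast, h, one_zpow]
  exact eq_one_of_two_three hp hR (Subgroup.mem_zpowers x) h2

end Cfsg.Agent.ThreeTransSplit52
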