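import Cfsg.Agent.ThreeTransSplit52.Basic
import Mathlib.GroupTheory.Nilpotent

/-!
The step of the splitting lemma: `W` a minimal normal elementary abelian `2`-subgroup.
-/

set_option autoImplicit false

namespace Cfsg.Agent.ThreeTransSplit52

universe v

variable {G : Type v} [Group G]

/-- `σ_X w = 1` makes `w` of the form `a * ν a`. -/
theorem exists_factor {W : Subgroup G} [W.Normal] {X ν : MulAut W} {w : W}
    (hW2 : ∀ u : W, u * u = 1) (hνν : ν * ν = 1) (hX3 : X * X * X = 1) (hνX : ν * X * ν = X⁻¹)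
    (hw : ν w = w) (hσ : w * X w * X (X w) = 1) : ∃ a : W, w = a * ν a := by
  refine ⟨X w, ?_⟩
  have h1 : X⁻¹ = X * X := inv_eq_of_mul_eq_one_right (by rw [← mul_assoc]; exact hX3)
  have h2 : ν (X w) = X (X w) := by
    have h := DFunLike.congr_fun hνX w
    rw [h1, MulAut.mul_apply, MulAut.mul_apply, MulAut.mul_apply, hw] at h
    exact h
  rw [h2]
  have h3 : X w * X (X w) = w⁻¹ := by
    exact (eq_inv_of_mul_eq_one_right (by rw [← mul_assoc]; exact hσ))
  rw [h3]
  exact eq_inv_of_mul_eq_one_left (hW2 w)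

theorem mul_comm' {W : Subgroup G} (hWc : ∀ u ∈ W, ∀ u' ∈ W, u * u' = u' * u) (a b c : W) :
    b * c * a = a * b * c := Subtype.ext (by
  simp only [Subgroup.coe_mul]
  rw [hWc _ (mul_mem b.2 c.2) _ a.2, mul_assoc])

theorem sum_fix {W : Subgroup G} (hW2 : ∀ u : W, u * u = 1) (X C : MulAut W) (w : W)
    (hc : ∀ t : W, X (C t) = C (X t)) (hX : ∀ t : W, X (X (X t)) = t)
    (h : w * C (X (X w)) * X (w * C (X (X w))) * X (X (w * C (X (X w)))) = 1) :
    C (w * X w * X (X w)) = w * X w * X (X w) := by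
  have hcomm : ∀ a b : W, a * b = b * a := fun a b => by
    have := hW2 (a * b)
    rw [← inv_eq_of_mul_eq_one_right this, mul_inv_rev, inv_eq_of_mul_eq_one_right (hW2 b),
      inv_eq_of_mul_eq_one_right (hW2 a)]
  simp only [map_mul, hc, hX] at h
  have e : w * C (X (X w)) * (X w * C w) * (X (X w) * C (X w)) =
      (w * X w * X (X w)) * C (w * X w * X (X w)) := by
    simp only [map_mul]
    letI : CommMonoid W := { (inferInstance : Monoid W) with mul_comm := hcomm }
    ac_rfl
  rw [e] at h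
  rw [← inv_eq_of_mul_eq_one_right h, inv_eq_of_mul_eq_one_right (hW2 _)]

variable [Finite G]

theorem step {V W P : Subgroup G} {d n w : G} [W.Normal] (hWV : W ≤ V)
    (hV : IsPGroup 2 V) (hP : IsPGroup 3 P) (hVW : ∀ v ∈ V, ∀ u ∈ W, v * u = u * v)
    (hW2 : ∀ u ∈ W, u * u = 1)
    (hmin : ∀ N : Subgroup G, N.Normal → N ≤ W → N = ⊥ ∨ N = W)
    (hgen : V ⊔ P ⊔ Subgroup.zpowers d = ⊤) (hd2 : d * d = 1) (hwW : w ∈ W) (hn : n = w * d)
    (hnP : ∀ x ∈ P, n * x * n⁻¹ ∈ P)
    (hord : ∀ g : G, (d * (g * d * g⁻¹)) ^ 2 = 1 ∨ (d * (g * d * g⁻¹)) ^ 3 = 1)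
    (hx : ∃ x ∈ P, x ≠ 1 ∧ d * x * d * x ∈ V) :
    ∃ a ∈ W, ∀ x ∈ P, ∃ y ∈ P, d * (a * x * a⁻¹) * d⁻¹ = a * y * a⁻¹ := by
  classical
  haveI := Fact.mk Nat.prime_two
  haveI := Fact.mk Nat.prime_three
  have hdinv : d⁻¹ = d := inv_eq_of_mul_eq_one_right hd2
  have hWc : ∀ u ∈ W, ∀ u' ∈ W, u * u' = u' * u := fun u hu u' hu' => hVW u (hWV hu) u' hu'
  have hWinv : ∀ u ∈ W, u⁻¹ = u := fun u hu => inv_eq_of_mul_eq_one_right (hW2 u hu)
  have hWP : ∀ z, z ∈ W → z ∈ P → z = 1 := fun z h h' => eq_one_of_two_three hV hP (hWV h) h'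
  -- sets invariant under `P` and `n` inside `W` are normal
  have key : ∀ N : Subgroup G, N ≤ W → (∀ x ∈ P, ∀ u ∈ N, x * u * x⁻¹ ∈ N) →
      (∀ u ∈ N, n * u * n⁻¹ ∈ N) → N = ⊥ ∨ N = W := by
    intro N hN hPN hnN
    refine hmin N ?_ hN
    rw [← Subgroup.normalizer_eq_top_iff, eq_top_iff, ← hgen, sup_le_iff, sup_le_iff,
      Subgroup.zpowers_le]
    have h : ∀ g : G, (∀ u ∈ N, g * u * g⁻¹ ∈ N) → g ∈ Subgroup.normalizer (N : Set G) := by
      intro g hg
      rw [Subgroup.mem_normalizer_iff]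
      intro u
      refine ⟨hg u, fun hu => ?_⟩
      have hfin := Finite.injective_iff_bijective.1
        (show Function.Injective (fun z : N => (⟨g * z * g⁻¹, hg z z.2⟩ : N)) from
          fun a b e => Subtype.ext (mul_left_cancel (mul_right_cancel (congrArg Subtype.val e))))
      obtain ⟨z, hz⟩ := hfin.2 ⟨g * u * g⁻¹, hu⟩
      have e := mul_left_cancel (mul_right_cancel (congrArg Subtype.val hz))
      exact e ▸ z.2
    refine ⟨⟨fun v hv => h v fun u hu => ?_, fun x hx => h x (hPN x hx)⟩, h d fun u hu => ?_⟩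
    · rw [hVW v hv u (hN hu), mul_inv_cancel_right]; exact hu
    · have hu' := hnN u hu
      have e : n * u * n⁻¹ = d * u * d⁻¹ := by
        rw [hn, show w * d * u * (w * d)⁻¹ = w * (d * u * d⁻¹) * w⁻¹ by group,
          hWc w hwW _ (Subgroup.Normal.conj_mem inferInstance u (hN hu) d), mul_inv_cancel_right]
      rwa [e] at hu'
  -- `W` centralises `P`, or nothing of `W` does
  by_cases hcent : ∀ x ∈ P, ∀ u ∈ W, x * u = u * x
  · refine ⟨1, one_mem _, fun x hx => ⟨n * x * n⁻¹, hnP x hx, ?_⟩⟩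
    have h := hcent _ (hnP x hx) w hwW
    rw [one_mul, one_mul, inv_one, mul_one, mul_one]
    calc d * x * d⁻¹ = w⁻¹ * (n * x * n⁻¹ * w) := by rw [hn]; group
      _ = n * x * n⁻¹ := by rw [h, inv_mul_cancel_left]
  have hfix : ∀ u ∈ W, (∀ x ∈ P, x * u = u * x) → u = 1 := by
    intro u hu hux
    rcases key (W ⊓ Subgroup.centralizer (P : Set G)) inf_le_left (fun x hx z hz => ⟨
        Subgroup.Normal.conj_mem inferInstance z hz.1 x, Subgroup.mem_centralizer_iff.2 fun y hy => by
          have h1 : x * z * x⁻¹ = z := by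
            rw [Subgroup.mem_centralizer_iff.1 hz.2 x hx, mul_inv_cancel_right]
          rw [h1]; exact Subgroup.mem_centralizer_iff.1 hz.2 y hy⟩) (fun z hz => ⟨
        Subgroup.Normal.conj_mem inferInstance z hz.1 n, Subgroup.mem_centralizer_iff.2 fun y hy => by
          obtain ⟨y', hy'⟩ := (Finite.injective_iff_bijective.1
            (show Function.Injective (fun q : P => (⟨n * q * n⁻¹, hnP q q.2⟩ : P)) from
              fun a b e => Subtype.ext (mul_left_cancel (mul_right_cancel (congrArg Subtype.val e))))).2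
            ⟨y, hy⟩
          have e : n * (y' : G) * n⁻¹ = y := congrArg Subtype.val hy'
          rw [← e, show n * (y' : G) * n⁻¹ * (n * z * n⁻¹) = n * (y' * z) * n⁻¹ by group,
            Subgroup.mem_centralizer_iff.1 hz.2 _ y'.2]
          group⟩) with h | h
    · have hmem : u ∈ W ⊓ Subgroup.centralizer (P : Set G) :=
        ⟨hu, Subgroup.mem_centralizer_iff.2 fun y hy => hux y hy⟩
      rwa [h, Subgroup.mem_bot] at hmem
    · exact absurd (fun x hx z hz => Subgroup.mem_centralizer_iff.1 (h.ge hz).2 x hx) hcent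
  -- `n` is an involution commuting with `w`
  have hnn : n * n = 1 := by
    have hmem : n * n ∈ W := by
      rw [hn, show w * d * (w * d) = w * (d * w * d) by group]
      exact mul_mem hwW (hdinv ▸ Subgroup.Normal.conj_mem inferInstance w hwW d :)
    refine hfix _ hmem fun x hx => ?_
    have h1 : (n * n) * x * (n * n)⁻¹ * x⁻¹ ∈ P :=
      mul_mem (by rw [show n * n * x * (n * n)⁻¹ = n * (n * x * n⁻¹) * n⁻¹ by group]
                  exact hnP _ (hnP x hx)) (inv_mem hx)
    have h2 : (n * n) * x * (n * n)⁻¹ * x⁻¹ ∈ W := by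
      rw [show (n * n) * x * (n * n)⁻¹ * x⁻¹ = (n * n) * (x * (n * n)⁻¹ * x⁻¹) by group]
      exact mul_mem hmem (Subgroup.Normal.conj_mem inferInstance _ (inv_mem hmem) x)
    have h3 := hWP _ h2 h1
    rw [mul_inv_eq_one, mul_inv_eq_iff_eq_mul] at h3
    exact h3.symm
  have hninv : n⁻¹ = n := inv_eq_of_mul_eq_one_right hnn
  have hdw : d * w * d = w := by
    rw [hn, show w * d * (w * d) = w * (d * w * d) by group] at hnn
    rw [← inv_eq_of_mul_eq_one_right hnn, hWinv w hwW]
  have hdn : d = w * n := by rw [hn, ← mul_assoc, hW2 w hwW, one_mul]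
  have hnw : n * w = w * n := by
    rw [hn, mul_assoc, show d * w = w * d by
      calc d * w = d * w * d * d := by rw [mul_assoc, hd2, mul_one]
        _ = w * d := by rw [hdw]]
  -- the action on `W`
  let φ : G →* MulAut W := MulAut.conjNormal
  have hφ : ∀ (g : G) (u : W), ((φ g u : W) : G) = g * u * g⁻¹ := fun g u =>
    MulAut.conjNormal_apply g u
  let wW : W := ⟨w, hwW⟩
  have hW2' : ∀ u : W, u * u = 1 := fun u => Subtype.ext (hW2 u u.2)
  have hνw : φ n wW = wW := Subtype.ext (by rw [hφ]; show n * w * n⁻¹ = w; rw [hnw, mul_inv_cancel_right])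
  have hνν : φ n * φ n = 1 := by rw [← map_mul, hnn, map_one]
  suffices h : ∃ a : W, wW = a * φ n a by
    obtain ⟨a, ha⟩ := h
    refine ⟨a, a.2, fun x hx => ⟨n * x * n⁻¹, hnP x hx, ?_⟩⟩
    have h1 : w = (a : G) * (n * a * n⁻¹) := by
      have := congrArg Subtype.val ha
      rwa [Subgroup.coe_mul, hφ] at this
    have h2 : d = a * n * a := by rw [hdn, h1]; group
    rw [h2]
    have ha2 := hW2 a a.2
    calc (a : G) * n * a * (a * x * (a : G)⁻¹) * ((a : G) * n * a)⁻¹
        = a * n * (a * a) * x * ((a : G) * a)⁻¹ * (n⁻¹ * (a : G)⁻¹) := by group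
      _ = a * (n * x * n⁻¹) * (a : G)⁻¹ := by rw [ha2]; group
  -- a central element of order three of the image of `P`
  set ν := φ n with hν
  let Q : Subgroup (MulAut W) := P.map φ
  have hQp : IsPGroup 3 Q := hP.map φ
  have hQmem : ∀ x ∈ P, φ x ∈ Q := fun x hx => Subgroup.mem_map_of_mem φ hx
  have hQne : ∃ x ∈ P, φ x ≠ 1 := by
    by_contra h
    push Not at h
    refine hcent fun x hx u hu => ?_
    have h1 := congrArg Subtype.val (DFunLike.congr_fun (h x hx) ⟨u, hu⟩)
    rw [hφ, MulAut.one_apply] at h1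
    exact mul_inv_eq_iff_eq_mul.1 h1
  haveI : Nontrivial Q := by
    obtain ⟨x, hx, hx1⟩ := hQne
    exact (Subgroup.nontrivial_iff_exists_ne_one Q).2 ⟨_, hQmem x hx, hx1⟩
  haveI : Nontrivial (Subgroup.center Q) := hQp.center_nontrivial
  obtain ⟨k, hk, hk'⟩ := (hQp.to_subgroup (Subgroup.center Q)).nontrivial_iff_card.1 inferInstance
  obtain ⟨z, hz⟩ := exists_prime_orderOf_dvd_card' (G := Subgroup.center Q) 3
    (hk' ▸ dvd_pow_self 3 hk.ne')
  have hz3 : z ^ 3 = 1 := hz ▸ pow_orderOf_eq_one z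
  set y : MulAut W := ((z : Q) : MulAut W) with hy
  have hy3 : y * y * y = 1 := by
    have := congrArg (fun t : Subgroup.center Q => ((t : Q) : MulAut W)) hz3
    simpa [pow_succ, hy] using this
  have hy1 : y ≠ 1 := fun e => by
    rw [show z = 1 from Subtype.ext (Subtype.ext e), orderOf_one] at hz
    omega
  have hyQ : y ∈ Q := (z : Q).2
  have hyc : ∀ x ∈ P, φ x * y = y * φ x := fun x hx =>
    congrArg Subtype.val (Subgroup.mem_center_iff.1 z.2 ⟨φ x, hQmem x hx⟩)
  have hνQ : ∀ q ∈ Q, ν * q * ν ∈ Q := by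
    rintro _ ⟨x, hx, rfl⟩
    have e : ν * φ x * ν = φ (n * x * n⁻¹) := by rw [hν, hninv, map_mul, map_mul]
    rw [e]; exact hQmem _ (hnP x hx)
  -- an element of the centre fixed or inverted by `n` fixes nothing
  have hfree : ∀ c : MulAut W, c ≠ 1 → (∀ x ∈ P, φ x * c = c * φ x) →
      (ν * c * ν = c ∨ ν * c * ν = c⁻¹) → ∀ u : W, c u = u → u = 1 := by
    intro c hc1 hcc hcν u hu
    rcases key ((MonoidHom.eqLocus c.toMonoidHom (MonoidHom.id W)).map W.subtype)
        (Subgroup.map_subtype_le _) (by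
      rintro x hx _ ⟨t, ht, rfl⟩
      refine ⟨φ x t, ?_, hφ x t⟩
      change c (φ x t) = φ x t
      rw [← MulAut.mul_apply, ← hcc x hx, MulAut.mul_apply, show c t = t from ht]) (by
      rintro _ ⟨t, ht, rfl⟩
      refine ⟨ν t, ?_, hφ n t⟩
      have hct : c t = t := ht
      have hct' : c⁻¹ t = t := by
        conv_lhs => rw [← hct]
        rw [← MulAut.mul_apply, inv_mul_cancel, MulAut.one_apply]
      change c (ν t) = ν t
      rcases hcν with h | h
      · have e : c * ν = ν * c := by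
          calc c * ν = ν * c * ν * ν := by rw [h]
            _ = ν * c := by rw [mul_assoc, hνν, mul_one]
        rw [← MulAut.mul_apply, e, MulAut.mul_apply, hct]
      · have e : c * ν = ν * c⁻¹ := by
          calc c * ν = (ν * ν) * c * ν := by rw [hνν, one_mul]
            _ = ν * c⁻¹ := by rw [← h]; group
        rw [← MulAut.mul_apply, e, MulAut.mul_apply, hct']) with h | h
    · have hm : (u : G) ∈ ((MonoidHom.eqLocus c.toMonoidHom (MonoidHom.id W)).map W.subtype) :=
        Subgroup.mem_map_of_mem W.subtype (show u ∈ MonoidHom.eqLocus c.toMonoidHom (MonoidHom.id W) from hu)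
      rw [h, Subgroup.mem_bot] at hm
      exact Subtype.ext hm
    · refine absurd (MulEquiv.ext fun t => ?_) hc1
      obtain ⟨t', ht', e⟩ := h.ge t.2
      rw [← Subtype.ext (e : (t' : G) = t)]
      exact ht'
  set y' := ν * y * ν with hy'
  have hy'c : ∀ x ∈ P, φ x * y' = y' * φ x := by
    intro x hx
    obtain ⟨x', hx', hxe⟩ := hνQ (φ x) (hQmem x hx)
    have h := hyc x' hx'
    have e : φ x = ν * φ x' * ν := by
      rw [hxe, ← mul_assoc, ← mul_assoc, hνν, one_mul, mul_assoc, hνν, mul_one]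
    rw [e, hy']
    calc ν * φ x' * ν * (ν * y * ν) = ν * (φ x' * (ν * ν) * y) * ν := by group
      _ = ν * (y * (ν * ν) * φ x') * ν := by rw [hνν, mul_one, mul_one, h]
      _ = ν * y * ν * (ν * φ x' * ν) := by group
  by_cases hinv : y * y' = 1
  · have hνy : ν * y * ν = y⁻¹ := (inv_eq_of_mul_eq_one_right hinv).symm
    refine exists_factor hW2' hνν hy3 hνy hνw (hfree y hy1 hyc (Or.inr hνy) _ ?_)
    have h3 := DFunLike.congr_fun hy3 wW
    rw [MulAut.mul_apply, MulAut.mul_apply, MulAut.one_apply] at h3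
    rw [map_mul, map_mul, h3]
    exact (mul_comm' hWc _ _ _)
  -- `c` acts centrally and commutes with `n`
  set C := y * y' with hC
  have hyy' : y * y' = y' * y := by
    obtain ⟨x', hx', hxe⟩ := hyQ
    have := hy'c x' hx'
    rwa [hxe] at this
  have hCν : ν * C * ν = C := by
    rw [hC]
    calc ν * (y * y') * ν = (ν * y * ν) * (y * (ν * ν)) := by rw [hy']; group
      _ = y * y' := by rw [hνν, mul_one, ← hy', hyy']
  have hCc : ∀ x ∈ P, φ x * C = C * φ x := fun x hx => by
    rw [hC, ← mul_assoc, hyc x hx, mul_assoc y (φ x) y', hy'c x hx, mul_assoc y y' (φ x)]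
  obtain ⟨c, hcP, hcφ⟩ : ∃ c ∈ P, φ c = C := Q.mul_mem hyQ (hνQ y hyQ)
  have hCfree := hfree C hinv hCc (Or.inl hCν)
  -- the products `d * e`
  have main : ∀ u ∈ P, n * u * n * u⁻¹ ≠ 1 →
      (n * u * n * u⁻¹) ^ 3 = 1 ∧
      let m := wW * φ (n * u) wW
      let q := φ (n * u * n * u⁻¹)
      m * q m * q (q m) = 1 := by
    intro u hu hq1
    set q := n * u * n * u⁻¹ with hq
    have hqP : q ∈ P := mul_mem (by
      have := hnP u hu
      rwa [hninv] at this) (inv_mem hu)
    set m := w * (n * u * w * (n * u)⁻¹) with hm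
    have hmW : m ∈ W := mul_mem hwW (Subgroup.Normal.conj_mem inferInstance w hwW _)
    have hde : d * (u * d * u⁻¹) = m * q := by
      rw [hm, hq, hdn, mul_inv_rev, hninv]
      calc w * n * (u * (w * n) * u⁻¹) = w * n * u * w * (u⁻¹ * (n * n) * u) * (n * u⁻¹) := by
            rw [hnn]; group
        _ = w * (n * u * w * (u⁻¹ * n)) * (n * u * n * u⁻¹) := by group
    have hpow : ∀ k : ℕ, (m * q) ^ k = 1 → q ^ k = 1 := by
      intro k hk
      have h1 : (m * q) ^ k * (q ^ k)⁻¹ ∈ W := by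
        clear hk
        induction k with
        | zero => simp
        | succ k ih =>
          rw [show (m * q) ^ (k + 1) * (q ^ (k + 1))⁻¹ =
            ((m * q) ^ k * (q ^ k)⁻¹) * (q ^ k * m * (q ^ k)⁻¹) by rw [pow_succ, pow_succ]; group]
          exact mul_mem ih (Subgroup.Normal.conj_mem inferInstance m hmW _)
      rw [hk, one_mul, inv_mem_iff] at h1
      exact hWP _ h1 (pow_mem hqP k)
    rcases hord u with h | h <;> rw [hde] at h
    · exact absurd (eq_one_of_sq hP hqP (hpow 2 h)) hq1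
    · have hq3 := hpow 3 h
      refine ⟨hq3, Subtype.ext ?_⟩
      simp only [Subgroup.coe_mul, hφ, Subgroup.coe_one]
      show m * (q * m * q⁻¹) * (q * (q * m * q⁻¹) * q⁻¹) = 1
      calc m * (q * m * q⁻¹) * (q * (q * m * q⁻¹) * q⁻¹) = (m * q) ^ 3 * (q ^ 3)⁻¹ := by
            rw [pow_three, pow_three]; group
        _ = 1 := by rw [h, hq3, one_mul, inv_one]
  have hφn : ∀ u : G, φ (n * u) wW = (ν * φ u) wW := fun u => by rw [map_mul, hν]
  by_cases hqc : n * c * n * c⁻¹ = 1
  swap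
  · refine ⟨1, ?_⟩
    obtain ⟨-, h⟩ := main c hcP hqc
    have hQ1 : φ (n * c * n * c⁻¹) = 1 := by
      rw [map_mul, map_mul, map_mul, map_inv, ← hν, hcφ, hCν, mul_inv_cancel]
    simp only [hQ1, MulAut.one_apply, hW2', one_mul] at h
    have h' : wW * (C wW) = 1 := by
      have e : φ (n * c) wW = C wW := by
        rw [hφn, hcφ]
        conv_lhs => rw [← hνw]
        rw [← MulAut.mul_apply, hCν]
      rwa [e] at h
    have hwC : C wW = wW := by
      rw [← inv_eq_of_mul_eq_one_right h', inv_eq_of_mul_eq_one_right (hW2' wW)]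
    rw [hCfree _ hwC, map_one, mul_one]
  obtain ⟨x, hxP, hx1, hxV⟩ := hx
  have hnx : n * x * n * x = 1 := by
    refine eq_one_of_two_three hV hP ?_ (mul_mem (by have := hnP x hxP; rwa [hninv] at this) hxP)
    have hVn : V.Normal → True := fun _ => trivial
    rw [show n * x * n * x = (w * (d * x * d * x) * w⁻¹) * (w * (x⁻¹ * w * x)) by
      conv_lhs => rw [show n * x * n = w * d * x * (d * w) by rw [hn, show w * d * x * (d * w) = w * d * x * (d * w) from rfl, show d * w = w * d by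
        calc d * w = d * w * d * d := by rw [mul_assoc, hd2, mul_one]
          _ = w * d := by rw [hdw]]]
      group]
    exact mul_mem (mul_mem (mul_mem (hWV hwW) hxV) (inv_mem (hWV hwW)))
      (mul_mem (hWV hwW) (hWV (Subgroup.Normal.conj_mem' inferInstance w hwW x)))
  have hnxn : n * x * n = x⁻¹ := eq_inv_of_mul_eq_one_left hnx
  have hq : n * (c * x) * n * (c * x)⁻¹ = c * x⁻¹ * x⁻¹ * c⁻¹ := by
    have e : n * c * n = c := mul_inv_eq_one.1 hqc
    calc n * (c * x) * n * (c * x)⁻¹ = n * c * (n * n) * x * n * (c * x)⁻¹ := by rw [hnn]; group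
      _ = n * c * n * (n * x * n) * (c * x)⁻¹ := by group
      _ = c * x⁻¹ * x⁻¹ * c⁻¹ := by rw [e, hnxn]; group
  have hq1 : n * (c * x) * n * (c * x)⁻¹ ≠ 1 := by
    rw [hq]
    intro h
    refine hx1 (eq_one_of_sq hP hxP ?_)
    rw [mul_inv_eq_one, mul_assoc, mul_eq_left] at h
    rw [pow_two]
    exact inv_eq_one.1 (by rw [mul_inv_rev]; exact h)
  obtain ⟨hq3, h⟩ := main (c * x) (mul_mem hcP hxP) hq1
  have hx3 : x * x * x = 1 := by
    rw [hq, show c * x⁻¹ * x⁻¹ * c⁻¹ = c * (x⁻¹ * x⁻¹) * c⁻¹ by group, conj_pow, mul_inv_eq_one,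
      mul_eq_left] at hq3
    have h6 : (x * x * x) ^ 2 = 1 := by
      have := congrArg (fun t => t⁻¹) hq3
      simp only [inv_one] at this
      rw [← this, pow_two, pow_three]; group; simp only [zpow_ofNat, pow_succ, pow_zero, one_mul, mul_assoc]
    exact eq_one_of_sq hP (mul_mem (mul_mem hxP hxP) hxP) h6
  set X := φ x with hX
  have hX3 : X * X * X = 1 := by rw [hX, ← map_mul, ← map_mul, hx3, map_one]
  have hνX : ν * X * ν = X⁻¹ := by rw [hν, hX, ← map_mul, ← map_mul, hnxn, map_inv]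
  have hqX : φ (n * (c * x) * n * (c * x)⁻¹) = X := by
    have hXi : X⁻¹ = X * X := inv_eq_of_mul_eq_one_right (by rw [← mul_assoc]; exact hX3)
    rw [hq, map_mul, map_mul, map_mul, map_inv, map_inv, ← hX, hcφ]
    calc C * X⁻¹ * X⁻¹ * C⁻¹ = C * (X * X * X) * X * C⁻¹ := by rw [hXi]; group
      _ = X := by rw [hX3, mul_one, ← hCc x hxP, mul_inv_cancel_right]
  have hm : φ (n * (c * x)) wW = C (X (X wW)) := by
    rw [hφn, map_mul, hcφ, ← hX]
    have e : ν * (C * X) = C * (X * X) * ν := by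
      have hXi : X⁻¹ = X * X := inv_eq_of_mul_eq_one_right (by rw [← mul_assoc]; exact hX3)
      calc ν * (C * X) = (ν * C * ν) * (ν * X * ν) * ν := by
            calc ν * (C * X) = ν * C * 1 * X * 1 := by group
              _ = _ := by rw [← hνν]; group
        _ = C * (X * X) * ν := by rw [hCν, hνX, hXi]
    rw [e]
    change C (X (X (ν wW))) = C (X (X wW))
    rw [hνw]
  simp only [hqX, hm] at h
  refine exists_factor hW2' hνν hX3 hνX hνw (hCfree _ ?_)
  have hc' : ∀ t : W, X (C t) = C (X t) := fun t => by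
    rw [← MulAut.mul_apply, hCc x hxP, MulAut.mul_apply]
  have hX3' : ∀ t : W, X (X (X t)) = t := fun t => by
    rw [← MulAut.mul_apply, ← MulAut.mul_apply, hX3, MulAut.one_apply]
  haveI : CommGroup W := { (inferInstance : Group W) with mul_comm := fun a b => Subtype.ext (hWc a a.2 b b.2) }
  exact sum_fix hW2' X C wW hc' hX3' h

end Cfsg.Agent.ThreeTransSplit52
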